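import Groth.Prelude.Def_W4bk5brsh16IT
import Groth.Agent.Depth.SeqDepth
import Mathlib.Algebra.CharP.Frobenius
import Mathlib.Algebra.CharP.Lemmas
import Mathlib.RingTheory.Filtration
import Mathlib.RingTheory.Ideal.KrullsHeightTheorem

/-!
# Tight closedness of systems of parameters in Cohen–Macaulay rings
-/

universe u

open IsLocalRing LocCoh RingTheory.Sequence

namespace Groth.Agent.TightClosure

variable {R : Type u} [CommRing R] [IsCohenMacaulayLocalRing R]

/-- A list generating an ideal primary to the maximal ideal, of length `dim R`. -/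
def IsSOP (xs : List R) : Prop :=
  (Ideal.ofList xs).radical = maximalIdeal R ∧ ringKrullDim R = (xs.length : WithBot ℕ∞)

lemma IsSOP.of_radical_eq {xs ys : List R} (h : IsSOP xs) (hlen : ys.length = xs.length)
    (hr : (Ideal.ofList ys).radical = (Ideal.ofList xs).radical) : IsSOP ys :=
  ⟨hr.trans h.1, by rw [hlen]; exact h.2⟩

lemma IsSOP.mem {xs : List R} (h : IsSOP xs) {x : R} (hx : x ∈ xs) : x ∈ maximalIdeal R :=
  h.1 ▸ Ideal.le_radical (Ideal.subset_span hx)

lemma IsSOP.isWeaklyRegular {xs : List R} (h : IsSOP xs) : IsWeaklyRegular R xs := by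
  refine (Depth.idealDepth_ofList_eq_length_iff xs fun x hx => h.mem hx).mp ?_
  rw [Depth.idealDepth_eq_of_radical_eq (h.1.trans
    (maximalIdeal.isMaximal R).isPrime.radical.symm)]
  have := (Depth.ringKrullDim_eq_depth (R := R)).symm.trans h.2
  exact_mod_cast this

lemma IsSOP.mem_of_mul_mem {l : List R} {y r : R} (h : IsSOP (l ++ [y]))
    (hr : y * r ∈ Ideal.ofList l) : r ∈ Ideal.ofList l := by
  have h1 := ((isWeaklyRegular_append_iff R l [y]).mp h.isWeaklyRegular).2
  rw [isWeaklyRegular_singleton_iff] at h1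
  have e : Ideal.ofList l • (⊤ : Submodule R R) = Ideal.ofList l := by
    rw [smul_eq_mul, Ideal.mul_top]
  rw [← e] at hr ⊢
  rw [← Submodule.Quotient.mk_eq_zero] at hr ⊢
  exact h1.right_eq_zero_of_smul (by rwa [← Submodule.Quotient.mk_smul, smul_eq_mul])

lemma IsSOP.map_pow {xs : List R} (h : IsSOP xs) {q : ℕ} (hq : q ≠ 0) :
    IsSOP (xs.map (· ^ q)) := by
  refine h.of_radical_eq (List.length_map ..) (le_antisymm (Ideal.radical_le_radical_iff.mpr
    (Ideal.span_le.mpr ?_)) (Ideal.radical_le_radical_iff.mpr (Ideal.span_le.mpr ?_)))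
  · intro z hz
    obtain ⟨x, hx, rfl⟩ := List.mem_map.mp hz
    exact Ideal.le_radical (Ideal.pow_mem_of_mem (Ideal.ofList xs) (Ideal.subset_span hx) q (Nat.pos_of_ne_zero hq))
  · intro x hx
    exact ⟨q, Ideal.subset_span (List.mem_map.mpr ⟨x, hx, rfl⟩)⟩

lemma isSOP_snoc_of_avoid {l : List R} {y c : R} (h : IsSOP (l ++ [y]))
    (hc : c ∈ maximalIdeal R)
    (hav : ∀ q ∈ (Ideal.ofList l).minimalPrimes, q ≠ maximalIdeal R → c ∉ q) :
    IsSOP (l ++ [c]) := by
  refine ⟨le_antisymm ?_ ?_, by rw [h.2]; simp⟩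
  · refine (maximalIdeal.isMaximal R).isPrime.radical_le_iff.mpr (Ideal.span_le.mpr fun z hz => ?_)
    rcases List.mem_append.mp hz with hz | hz
    · exact h.mem (List.mem_append_left _ hz)
    · rw [List.mem_singleton.mp hz]; exact hc
  · rw [Ideal.radical_eq_sInf]
    refine le_sInf fun P ⟨hP, hPp⟩ => ?_
    by_contra hne
    rw [Ideal.ofList_append, Ideal.ofList_singleton] at hP
    obtain ⟨q, hq, hqP⟩ := Ideal.exists_minimalPrimes_le (le_sup_left.trans hP)
    have hqm : q ≠ maximalIdeal R := fun e => hne (e ▸ hqP)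
    have hlt : q < P := lt_of_le_of_ne hqP fun e => hav q hq hqm
      (e ▸ hP (Submodule.mem_sup_right (Ideal.mem_span_singleton_self c)))
    have hPm : P < maximalIdeal R :=
      lt_of_le_of_ne (le_maximalIdeal hPp.ne_top) fun e => hne e.ge
    have hmin : maximalIdeal R ∈ (Ideal.ofList l ⊔ Ideal.span {y}).minimalPrimes := by
      rw [← Ideal.ofList_singleton, ← Ideal.ofList_append]
      refine ⟨⟨(maximalIdeal.isMaximal R).isPrime, h.1 ▸ Ideal.le_radical⟩, fun Q hQ _ => ?_⟩
      exact h.1 ▸ hQ.1.radical_le_iff.mpr hQ.2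
    have hh := Ideal.map_height_le_one_of_mem_minimalPrimes hmin
    have hker : ∀ {Q : Ideal R}, q ≤ Q → RingHom.ker (Ideal.Quotient.mk (Ideal.ofList l)) ≤ Q :=
      fun hQ => Ideal.mk_ker.trans_le (hq.1.2.trans hQ)
    have hinj : ∀ {P Q : Ideal R}, q ≤ P → q ≤ Q → P < Q →
        P.map (Ideal.Quotient.mk (Ideal.ofList l)) < Q.map (Ideal.Quotient.mk (Ideal.ofList l)) := by
      intro P Q hP hQ hPQ
      refine lt_of_le_of_ne (Ideal.map_mono hPQ.le) fun e => hPQ.ne ?_
      have := congrArg (Ideal.comap (Ideal.Quotient.mk (Ideal.ofList l))) e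
      rwa [Ideal.comap_map_of_surjective _ Ideal.Quotient.mk_surjective,
        Ideal.comap_map_of_surjective _ Ideal.Quotient.mk_surjective, sup_eq_left.mpr (show
          Ideal.comap (Ideal.Quotient.mk (Ideal.ofList l)) ⊥ ≤ P from hker hP),
        sup_eq_left.mpr (show Ideal.comap (Ideal.Quotient.mk (Ideal.ofList l)) ⊥ ≤ Q from hker hQ)]
        at this
    have hq' := hq.1.1
    have : (q.map (Ideal.Quotient.mk (Ideal.ofList l))).IsPrime :=
      Ideal.map_isPrime_of_surjective Ideal.Quotient.mk_surjective (hker le_rfl)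
    have : (P.map (Ideal.Quotient.mk (Ideal.ofList l))).IsPrime :=
      Ideal.map_isPrime_of_surjective Ideal.Quotient.mk_surjective (hker hqP)
    have : ((maximalIdeal R).map (Ideal.Quotient.mk (Ideal.ofList l))).IsPrime :=
      Ideal.map_isPrime_of_surjective Ideal.Quotient.mk_surjective (hker (hqP.trans hPm.le))
    have h1 := Ideal.height_add_one_le_of_lt_of_isPrime (hinj le_rfl hqP hlt)
    have h2 := Ideal.height_add_one_le_of_lt_of_isPrime (hinj hqP (hqP.trans hPm.le) hPm)
    have h3 := ((add_le_add_left (le_add_self.trans h1) 1).trans h2).trans hh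
    exact absurd h3 (by decide)

variable (p : ℕ) [Fact p.Prime] [CharP R p]

omit [IsCohenMacaulayLocalRing R] in
lemma frobPow_ofList (xs : List R) (e : ℕ) :
    frobPow (Ideal.ofList xs) (p ^ e) = Ideal.ofList (xs.map (· ^ (p ^ e))) := by
  rw [frobPow, ← show (Ideal.ofList xs).map (iterateFrobenius R p e) =
    Ideal.ofList (xs.map (· ^ (p ^ e))) by
      rw [Ideal.map_ofList]; exact congrArg _ (List.map_congr_left fun x _ => iterateFrobenius_def ..)]
  refine le_antisymm (Ideal.span_le.mpr ?_) (Ideal.map_le_iff_le_comap.mpr fun x hx => ?_)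
  · rintro _ ⟨x, hx, rfl⟩
    rw [← iterateFrobenius_def p e x]
    exact Ideal.mem_map_of_mem _ hx
  · exact Ideal.subset_span ⟨x, hx, iterateFrobenius_def ..⟩

omit [IsCohenMacaulayLocalRing R] [Fact p.Prime] [CharP R p] in
lemma frobPow_mono {I J : Ideal R} (h : I ≤ J) (q : ℕ) : frobPow I q ≤ frobPow J q :=
  Ideal.span_mono fun _ ⟨x, hx, e⟩ => ⟨x, h hx, e⟩

lemma frobPow_snoc (l : List R) (y : R) (e : ℕ) :
    frobPow (Ideal.ofList (l ++ [y])) (p ^ e) =
      Ideal.ofList (l.map (· ^ (p ^ e))) ⊔ Ideal.span {y ^ (p ^ e)} := by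
  rw [frobPow_ofList, List.map_append, Ideal.ofList_append, List.map_singleton,
    Ideal.ofList_singleton]

lemma isTightlyClosed_snoc_pow {l : List R} {y : R} (h : IsSOP (l ++ [y]))
    (hy : IsTightlyClosed p (Ideal.ofList (l ++ [y]))) :
    ∀ t : ℕ, IsTightlyClosed p (Ideal.ofList (l ++ [y ^ (t + 1)])) := by
  intro t
  induction t with
  | zero => rwa [pow_one]
  | succ t ih =>
    rintro r ⟨c, hc, e₀, hr⟩
    have hle : Ideal.ofList (l ++ [y ^ (t + 1 + 1)]) ≤ Ideal.ofList (l ++ [y]) := by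
      rw [Ideal.ofList_append, Ideal.ofList_append, Ideal.ofList_singleton, Ideal.ofList_singleton]
      exact sup_le_sup_left (Ideal.span_singleton_le_span_singleton.mpr
        (dvd_pow_self y (Nat.succ_ne_zero _))) _
    have hr1 : r ∈ Ideal.ofList (l ++ [y]) :=
      hy ⟨c, hc, e₀, fun e he => frobPow_mono hle _ (hr e he)⟩
    rw [Ideal.ofList_append, Ideal.ofList_singleton] at hr1
    obtain ⟨j, hj, ys, hys, rfl⟩ := Submodule.mem_sup.mp hr1
    obtain ⟨s, rfl⟩ := Ideal.mem_span_singleton'.mp hys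
    have hs : s ∈ Ideal.ofList (l ++ [y ^ (t + 1)]) := by
      refine ih ⟨c, hc, e₀, fun e he => ?_⟩
      have h1 := hr e he
      rw [frobPow_snoc] at h1 ⊢
      have h2 : c * j ^ (p ^ e) ∈ Ideal.ofList (l.map (· ^ (p ^ e))) :=
        Ideal.mul_mem_left _ c (frobPow_ofList p l e ▸ Ideal.subset_span ⟨j, hj, rfl⟩)
      rw [add_pow_char_pow, mul_add] at h1
      have h3 := (Submodule.add_mem_iff_right _ (Submodule.mem_sup_left h2)).mp h1
      obtain ⟨u, hu, v, hv, huv⟩ := Submodule.mem_sup.mp h3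
      obtain ⟨a, rfl⟩ := Ideal.mem_span_singleton'.mp hv
      have hq : IsSOP (l.map (· ^ (p ^ e)) ++ [y ^ (p ^ e)]) := by
        have := h.map_pow (q := p ^ e) (pow_ne_zero _ (Fact.out : p.Prime).ne_zero)
        rwa [List.map_append, List.map_singleton] at this
      have h4 := hq.mem_of_mul_mem
        (r := c * s ^ (p ^ e) - a * (y ^ (t + 1)) ^ (p ^ e)) (by
          have e1 : y ^ p ^ e * (c * s ^ p ^ e - a * (y ^ (t + 1)) ^ p ^ e) = u := by
            rw [pow_succ y (t + 1)] at huv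
            rw [mul_pow, mul_pow] at huv
            linear_combination (-1 : R) * huv
          rw [e1]; exact hu)
      exact Submodule.mem_sup.mpr ⟨_, h4, _, Ideal.mem_span_singleton'.mpr ⟨a, rfl⟩,
        sub_add_cancel _ _⟩
    rw [Ideal.ofList_append, Ideal.ofList_singleton] at hs ⊢
    obtain ⟨j', hj', ys', hys', rfl⟩ := Submodule.mem_sup.mp hs
    obtain ⟨a, rfl⟩ := Ideal.mem_span_singleton'.mp hys'
    refine Submodule.mem_sup.mpr ⟨j + j' * y, add_mem hj (Ideal.mul_mem_right _ _ hj'),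
      a * y ^ (t + 1 + 1), Ideal.mem_span_singleton'.mpr ⟨a, rfl⟩, ?_⟩
    rw [pow_succ y (t + 1)]
    ring

lemma isTightlyClosed_of_snoc_mem {l : List R} {y z : R} (h : IsSOP (l ++ [y]))
    (hy : IsTightlyClosed p (Ideal.ofList (l ++ [y]))) (hmem : y ∈ Ideal.ofList (l ++ [z])) :
    IsTightlyClosed p (Ideal.ofList (l ++ [z])) := by
  rintro r ⟨c, hc, e₀, hr⟩
  rw [Ideal.ofList_append, Ideal.ofList_singleton] at hmem
  obtain ⟨j, hj, wz, hwz, rfl⟩ := Submodule.mem_sup.mp hmem
  obtain ⟨w, rfl⟩ := Ideal.mem_span_singleton'.mp hwz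
  have hw : w * r ∈ Ideal.ofList (l ++ [j + w * z]) := by
    refine hy ⟨c, hc, e₀, fun e he => ?_⟩
    have h1 := hr e he
    rw [frobPow_snoc] at h1 ⊢
    obtain ⟨u, hu, v, hv, huv⟩ := Submodule.mem_sup.mp h1
    obtain ⟨a, rfl⟩ := Ideal.mem_span_singleton'.mp hv
    refine Submodule.mem_sup.mpr ⟨w ^ (p ^ e) * u - a * j ^ (p ^ e), sub_mem
      (Ideal.mul_mem_left _ _ hu) (Ideal.mul_mem_left _ _
        (frobPow_ofList p l e ▸ Ideal.subset_span ⟨j, hj, rfl⟩)),
      a * (j + w * z) ^ (p ^ e), Ideal.mem_span_singleton'.mpr ⟨a, rfl⟩, ?_⟩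
    rw [add_pow_char_pow, mul_pow, mul_pow]
    linear_combination (w ^ p ^ e) * huv
  rw [Ideal.ofList_append, Ideal.ofList_singleton] at hw
  obtain ⟨j', hj', v, hv, hjv⟩ := Submodule.mem_sup.mp hw
  obtain ⟨a, rfl⟩ := Ideal.mem_span_singleton'.mp hv
  have h5 : r - a * z ∈ Ideal.ofList l := by
    refine h.mem_of_mul_mem ?_
    have e1 : (j + w * z) * (r - a * z) = j * (r - a * z) + z * (j' + a * j) := by
      linear_combination (-z) * hjv
    rw [e1]
    exact add_mem (Ideal.mul_mem_right _ _ hj)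
      (Ideal.mul_mem_left _ _ (add_mem hj' (Ideal.mul_mem_left _ _ hj)))
  rw [Ideal.ofList_append, Ideal.ofList_singleton]
  exact Submodule.mem_sup.mpr ⟨_, h5, _, Ideal.mem_span_singleton'.mpr ⟨a, rfl⟩, sub_add_cancel _ _⟩

lemma isTightlyClosed_snoc {l : List R} {y z : R} (h : IsSOP (l ++ [y])) (h' : IsSOP (l ++ [z]))
    (hy : IsTightlyClosed p (Ideal.ofList (l ++ [y]))) :
    IsTightlyClosed p (Ideal.ofList (l ++ [z])) := by
  obtain ⟨t, ht⟩ : y ∈ (Ideal.ofList (l ++ [z])).radical := by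
    rw [h'.1]; exact h.mem (List.mem_append_right _ (List.mem_singleton_self y))
  have ht' : y ^ (t + 1) ∈ Ideal.ofList (l ++ [z]) := by
    rw [pow_succ]; exact Ideal.mul_mem_right _ _ ht
  refine isTightlyClosed_of_snoc_mem p (h.of_radical_eq (by simp) ?_)
    (isTightlyClosed_snoc_pow p h hy t) ht'
  simp only [Ideal.ofList_append, Ideal.ofList_singleton]
  rw [Ideal.radical_sup, ← Ideal.span_singleton_pow, Ideal.radical_pow _ (Nat.succ_ne_zero t),
    ← Ideal.radical_sup]

/-- Tight closedness spreads to all systems of parameters. -/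
theorem isTightlyClosed_of_isSOP : ∀ (k : ℕ) (L a b : List R), a.length = k → b.length = k →
    IsSOP (L ++ a) → IsSOP (L ++ b) → IsTightlyClosed p (Ideal.ofList (L ++ a)) →
    IsTightlyClosed p (Ideal.ofList (L ++ b)) := by
  intro k
  induction k with
  | zero =>
    intro L a b ha hb _ _ h
    rw [List.length_eq_zero_iff] at ha hb
    subst ha hb
    exact h
  | succ k ih =>
    intro L a b ha hb hsa hsb h
    obtain ⟨a', y, rfl⟩ := (List.eq_nil_or_concat' a).resolve_left (by rintro rfl; simp at ha)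
    obtain ⟨b', z, rfl⟩ := (List.eq_nil_or_concat' b).resolve_left (by rintro rfl; simp at hb)
    rw [List.length_append, List.length_singleton] at ha hb
    rw [← List.append_assoc] at hsa hsb h ⊢
    obtain ⟨c, hcm, hc⟩ : ∃ c ∈ maximalIdeal R,
        ∀ q ∈ (Ideal.ofList (L ++ a')).minimalPrimes ∪ (Ideal.ofList (L ++ b')).minimalPrimes,
          q ≠ maximalIdeal R → c ∉ q := by
      by_contra! hall
      have hfin : {q | q ∈ (Ideal.ofList (L ++ a')).minimalPrimes ∪
          (Ideal.ofList (L ++ b')).minimalPrimes ∧ q ≠ maximalIdeal R}.Finite :=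
        ((Ideal.ofList (L ++ a')).finite_minimalPrimes_of_isNoetherianRing.union
          (Ideal.ofList (L ++ b')).finite_minimalPrimes_of_isNoetherianRing).subset fun q hq => hq.1
      have hsub : (maximalIdeal R : Set R) ⊆ ⋃ q ∈ {q | q ∈
          (Ideal.ofList (L ++ a')).minimalPrimes ∪ (Ideal.ofList (L ++ b')).minimalPrimes ∧
            q ≠ maximalIdeal R}, (id q : Ideal R) := fun x hx => by
        obtain ⟨q, hq, hne, hxq⟩ := hall x hx
        exact Set.mem_biUnion ⟨hq, hne⟩ hxq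
      obtain ⟨q, ⟨hq, hne⟩, hle⟩ := (Ideal.subset_union_prime_finite hfin ⊥ ⊥
        (fun q hq _ _ => hq.1.elim (fun h => h.1.1) (fun h => h.1.1))).mp hsub
      have hqp : q.IsPrime := hq.elim (fun h => h.1.1) (fun h => h.1.1)
      exact hne ((maximalIdeal.isMaximal R).eq_of_le hqp.ne_top hle).symm
    have sa := isSOP_snoc_of_avoid hsa hcm fun q hq => hc q (Or.inl hq)
    have sb := isSOP_snoc_of_avoid hsb hcm fun q hq => hc q (Or.inr hq)
    have perm : ∀ l : List R, Ideal.ofList ((L ++ [c]) ++ l) = Ideal.ofList ((L ++ l) ++ [c]) :=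
      fun l => by simp only [Ideal.ofList_append]; rw [sup_right_comm]
    have h1 : IsTightlyClosed p (Ideal.ofList ((L ++ [c]) ++ b')) := by
      refine ih (L ++ [c]) a' b' (by omega) (by omega)
        (sa.of_radical_eq (by simp only [List.length_append, List.length_singleton]; omega)
          (by rw [perm]))
        (sb.of_radical_eq (by simp only [List.length_append, List.length_singleton]; omega)
          (by rw [perm])) ?_
      rw [perm]
      exact isTightlyClosed_snoc p hsa sa h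
    rw [perm] at h1
    exact isTightlyClosed_snoc p sb hsb h1

/-- Tight closedness of the ideals generated by part of a system of parameters. -/
theorem isTightlyClosed_of_prefix {l m' : List R}
    (h : ∀ t, IsTightlyClosed p (Ideal.ofList (l ++ m'.map (· ^ (t + 1)))))
    (hm : ∀ x ∈ m', x ∈ maximalIdeal R) (hl : ∀ x ∈ l, x ∈ maximalIdeal R) :
    IsTightlyClosed p (Ideal.ofList l) := by
  rintro r ⟨c, hc, e₀, hr⟩
  have hr' : ∀ t, r ∈ Ideal.ofList l ⊔ maximalIdeal R ^ (t + 1) := fun t => by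
    have h1 : r ∈ Ideal.ofList (l ++ m'.map (· ^ (t + 1))) :=
      h t ⟨c, hc, e₀, fun e he => frobPow_mono (by rw [Ideal.ofList_append]; exact le_sup_left) _
        (hr e he)⟩
    rw [Ideal.ofList_append] at h1
    refine (sup_le_sup_left (a := Ideal.ofList (m'.map (· ^ (t + 1))))
      (b := maximalIdeal R ^ (t + 1)) (Ideal.span_le.mpr ?_) (Ideal.ofList l) : _) h1
    intro z hz
    obtain ⟨x, hx, rfl⟩ := List.mem_map.mp hz
    exact Ideal.pow_mem_pow (hm x hx) _
  have hne : Ideal.ofList l ≠ ⊤ := fun e => (maximalIdeal.isMaximal R).ne_top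
    (top_le_iff.mp (e.ge.trans (Ideal.span_le.mpr hl)))
  have key := Ideal.iInf_pow_smul_eq_bot_of_isLocalRing (M := R ⧸ Ideal.ofList l) (maximalIdeal R)
    (maximalIdeal.isMaximal R).ne_top
  rw [SetLike.mem_coe, ← Submodule.Quotient.mk_eq_zero (Ideal.ofList l), ← Submodule.mem_bot R, ← key,
    Submodule.mem_iInf]
  intro t
  obtain ⟨j, hj, z, hz, rfl⟩ := Submodule.mem_sup.mp (hr' t)
  rw [Submodule.Quotient.mk_add, (Submodule.Quotient.mk_eq_zero _).mpr hj, zero_add]
  have hz' : (z : R) • (Submodule.Quotient.mk 1 : R ⧸ Ideal.ofList l) ∈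
      maximalIdeal R ^ t • (⊤ : Submodule R (R ⧸ Ideal.ofList l)) :=
    Submodule.smul_mem_smul (Ideal.pow_le_pow_right (Nat.le_succ t) hz) Submodule.mem_top
  rwa [← Submodule.Quotient.mk_smul, smul_eq_mul, mul_one] at hz'

end Groth.Agent.TightClosure
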